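import Cfsg.Agent.H0.MFi22.D
import Cfsg.Agent.H0.TCA3.Main
import Cfsg.Agent.H0.TCA4.Main
import Cfsg.Agent.H0.TCD5.Main
import Cfsg.Agent.H0.TCE6.Main
import Cfsg.Agent.H0.TCFi22d.Main
import Cfsg.Agent.H0.TCFi22c.Main
import Cfsg.Agent.H0.TCFi22b.Main
import Cfsg.Agent.H0.TCFi22a.Main
set_option maxRecDepth 100000
namespace H0.MFi22
open H0 BN 
theorem rels : ∀ r ∈ B, ev R.p r = 1 := all_take_done (all_take_step (all_take_zero _ B) (rels_of_relsW R c0)) (by decide +kernel)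
theorem defs_ok : DefsOK R.p defs 9 := defsOK_of_chk c1
variable {G : Type*} [Group G] (P : Pres G 9 B)
noncomputable def m : Model G := P.model defs R rels (by decide +kernel) defs_ok R_ge
include P
theorem mR : (m P).R = R := rfl
theorem g_eq {x : ℕ} (h : x < 9) : (m P).g x = P.g x := extG_out defs P.g 9 (Or.inl h)
theorem top : gen (m P).g (lets 9) = ⊤ := (gen_extG defs P.g 9 (by decide)).trans P.top
theorem grel : ∀ r ∈ B, ev (m P).g r = 1 := rels_extG defs 9 (by decide +kernel) P.rel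
theorem hi : ∀ x < 9, (m P).g x * (m P).g (inv x) = 1 := inv_of_invChk (grel P) (by decide +kernel)
theorem upper : Finite G ∧ Nat.card G ≤ 64561751654400 := card_of_top (top P) ((chain_step (σ := [[0], [1], [2], [3], [4], [5], [6], [7], [8]]) (n := 14080) H0.TCFi22b.main rfl rfl (rels_of_consChk (grel P) 9 inv (by decide +kernel)) (chain_step (σ := [[1], [2], [3], [4], [5], [6], [7], [8]]) (n := 364) H0.TCFi22c.main rfl rfl (rels_of_consChk (grel P) 9 inv (by decide +kernel)) (chain_step (σ := [[1], [2], [3], [4], [5], [7], [8]]) (n := 243) H0.TCFi22d.main rfl rfl (rels_of_consChk (grel P) 9 inv (by decide +kernel)) (chain_step (σ := [[2], [3], [4], [5], [7], [8]]) (n := 27) H0.TCE6.main rfl rfl (rels_of_consChk (grel P) 9 inv (by decide +kernel)) (chain_step (σ := [[2], [3], [4], [5], [7]]) (n := 16) H0.TCD5.main rfl rfl (rels_of_consChk (grel P) 9 inv (by decide +kernel)) (chain_step (σ := [[2], [3], [4],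 [5]]) (n := 5) H0.TCA4.main rfl rfl (rels_of_consChk (grel P) 9 inv (by decide +kernel)) (chain_step (σ := [[2], [3], [4]]) (n := 24) H0.TCA3.main rfl rfl (rels_of_consChk (grel P) 9 inv (by decide +kernel)) (chain_start _)))))))).imp_right fun h => h.trans (by decide +kernel))
theorem fin : Finite G := (upper P).1
theorem card_base : Nat.card G = 64561751654400 ∧ (m P).pst [118, 326, 1137, 1, 0] = ⊥ :=
  haveI := fin P
  (m P).card_done ((m P).card_step (lo := 118) (d := 16) (Model.via _ (mR P) (fun R => Model.fixW R [326, 1137, 1, 0] [[18], [19], [20]]) c10) ((m P).inOrb_grow [0, 1, 2, 0, 0] ((m P).inOrb_self _ 118) (Model.via _ (mR P) (fun R => Model.growW R [[18], [19], [20]] [0, 1, 2, 0, 0] (Nat.pow 2 118) (ival 118 16)) c11)) (Model.via _ (mR P) (fun R => Nat.ble (118 + 16) R.N) (by decide +kernel)) ((m P).card_step (lo := 326) (d := 243) (Model.via _ (mR P) (fun R => Model.fixW R [1137, 1, 0] [[15],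 [16], [17]]) c8) ((m P).inOrb_grow [0, 1, 2, 0, 1, 2, 0, 1, 2, 0, 2, 0] ((m P).inOrb_self _ 326) (Model.via _ (mR P) (fun R => Model.growW R [[15], [16], [17]] [0, 1, 2, 0, 1, 2, 0, 1, 2, 0, 2, 0] (Nat.pow 2 326) (ival 326 243)) c9)) (Model.via _ (mR P) (fun R => Nat.ble (326 + 243) R.N) (by decide +kernel)) ((m P).card_step (lo := 1137) (d := 1680) (Model.via _ (mR P) (fun R => Model.fixW R [1, 0] [[13], [14]]) c6) ((m P).inOrb_grow [0, 1, 0, 1, 0, 1, 0, 1, 0, 1, 0, 1, 0, 1, 0, 1, 0, 1, 0] ((m P).inOrb_self _ 1137) (Model.via _ (mR P) (fun R => Model.growW R [[13], [14]] [0, 1, 0, 1, 0, 1, 0, 1, 0, 1, 0, 1, 0, 1, 0, 1, 0, 1, 0] (Nat.pow 2 1137) (ival 1137 1680)) c7)) (Model.via _ (mR P) (fun R => Nat.ble (1137 + 1680) R.N) (by decide +kernel)) ((m P).card_step (lo := 1) (d := 2816) (Model.via _ (mR P) (fun R => Model.fixW R [0] [[11], [12]]) c4) ((m P).inOrb_grow [0, 1, 0, 1, 0, 1, 0, 1, 0, 1, 0, 1, 0, 1,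 0, 1, 0, 1, 0, 1] ((m P).inOrb_self _ 1) (Model.via _ (mR P) (fun R => Model.growW R [[11], [12]] [0, 1, 0, 1, 0, 1, 0, 1, 0, 1, 0, 1, 0, 1, 0, 1, 0, 1, 0, 1] (Nat.pow 2 1) (ival 1 2816)) c5)) (Model.via _ (mR P) (fun R => Nat.ble (1 + 2816) R.N) (by decide +kernel)) ((m P).card_step (lo := 0) (d := 3510) (Model.via _ (mR P) (fun R => Model.fixW R [] [[9], [10]]) c2) ((m P).inOrb_grow [0, 1, 0, 1, 0, 1, 0, 1, 0, 1, 0, 1, 0, 1, 0, 1, 0, 1, 0, 1, 0, 1] ((m P).inOrb_self _ 0) (Model.via _ (mR P) (fun R => Model.growW R [[9], [10]] [0, 1, 0, 1, 0, 1, 0, 1, 0, 1, 0, 1, 0, 1, 0, 1, 0, 1, 0, 1, 0, 1] (Nat.pow 2 0) (ival 0 3510)) c3)) (Model.via _ (mR P) (fun R => Nat.ble (0 + 3510) R.N) (by decide +kernel)) ((m P).card_start)))))) (upper P).2 (by decide +kernel)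
theorem card : Nat.card G = 64561751654400 := (card_base P).1
theorem base : (m P).pst [118, 326, 1137, 1, 0] = ⊥ := (card_base P).2
theorem inj : Function.Injective (m P).φ := (m P).inj_of_base (base P)
theorem trans : (m P).orb ⊤ 0 = Set.Ico 0 (0 + 3510) :=
  (m P).orb_eq_ico' ((m P).inOrb_mono le_top ((m P).inOrb_grow [0, 1, 0, 1, 0, 1, 0, 1, 0, 1, 0, 1, 0, 1, 0, 1, 0, 1, 0, 1, 0, 1] ((m P).inOrb_self _ 0) (Model.via _ (mR P) (fun R => Model.growW R [[9], [10]] [0, 1, 0, 1, 0, 1, 0, 1, 0, 1, 0, 1, 0, 1, 0, 1, 0, 1, 0, 1, 0, 1] (Nat.pow 2 0) (ival 0 3510)) c12))) (top P).ge (Model.via _ (mR P) (fun R => Model.invW R [[0], [1], [2], [3], [4], [5], [6], [7], [8]] 0 3510) c13) (by decide)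
theorem sub1 : (m P).InOrb (gen (m P).g [[11], [12]]) 1 (ival 1 2816) := ((m P).inOrb_grow [0, 1, 0, 1, 0, 1, 0, 1, 0, 1, 0, 1, 0, 1, 0, 1, 0, 1, 0, 1] ((m P).inOrb_self _ 1) (Model.via _ (mR P) (fun R => Model.growW R [[11], [12]] [0, 1, 0, 1, 0, 1, 0, 1, 0, 1, 0, 1, 0, 1, 0, 1, 0, 1, 0, 1] (Nat.pow 2 1) (ival 1 2816)) c15))
theorem sub2817 : (m P).InOrb (gen (m P).g [[11], [12]]) 2925 (ival 2817 693) := ((m P).inOrb_grow [0, 1, 0, 1, 0, 1, 0, 1, 0, 1, 0, 1, 0, 1, 0, 1, 0] ((m P).inOrb_self _ 2925) (Model.via _ (mR P) (fun R => Model.growW R [[11], [12]] [0, 1, 0, 1, 0, 1, 0, 1, 0, 1, 0, 1, 0, 1, 0, 1, 0] (Nat.pow 2 2925) (ival 2817 693)) c18))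
theorem coatom : IsCoatom ((m P).pst [0]) := (m P).coatom (trans P) (by decide) ((m P).maxUpTo_step ((m P).maxUpTo_step ((m P).maxUpTo_one 3510) (Model.via _ (mR P) (fun R => Model.fixW R [0] [[11], [12]]) c14) (sub1 P) (Model.via _ (mR P) (fun R => Nat.ble (1 + 2816) R.N) (by decide +kernel)) (Model.via _ (mR P) (fun R => Nat.ble (0 + 3510) R.N) (by decide +kernel)) (Model.via _ (mR P) (fun R => mapsW R [9] (Nat.pow 2 0) (Nat.pow 2 1)) c16) ((m P).inOrb_grow [0, 0, 1, 2, 0, 1, 2, 0, 1, 2, 0, 1, 2, 0, 1, 2, 1, 0] ((m P).inOrb_self _ 0) (Model.via _ (mR P) (fun R => Model.growW R [[9], [11], [12]] [0, 0, 1, 2, 0, 1, 2, 0, 1, 2, 0, 1, 2, 0, 1, 2, 1, 0] (Nat.pow 2 0) (ival 0 3510)) c17))) (Model.via _ (mR P) (fun R => Model.fixW R [0] [[11], [12]]) c14) (sub2817 P) (Model.via _ (mR P) (fun R => Nat.ble (2817 + 693) R.N) (by decide +kernel)) (Model.via _ (mR P) (fun R => Nat.ble (0 + 3510) R.N) (by decide +kernel))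 (Model.via _ (mR P) (fun R => mapsW R [9, 10, 9] (Nat.pow 2 0) (Nat.pow 2 2925)) c19) ((m P).inOrb_grow [0, 0, 1, 2, 0, 1, 2, 0, 1, 2, 0, 1, 2, 0, 1, 2, 1, 0] ((m P).inOrb_self _ 0) (Model.via _ (mR P) (fun R => Model.growW R [[9, 10, 9], [11], [12]] [0, 0, 1, 2, 0, 1, 2, 0, 1, 2, 0, 1, 2, 0, 1, 2, 1, 0] (Nat.pow 2 0) (ival 0 3510)) c20)))
theorem ng : ∀ N : Subgroup G, N.Normal → ev (m P).g [21] ∈ N → N = ⊤ :=
  ng_top (hi P) ngSt [21] (by decide) (all_take_done (all_take_step (all_take_zero _ ngR) ((m P).ev_one (inj P) (Model.via _ (mR P) (fun R => relsW R 0 R.lg ((ngR.drop 0).take 18)) c21))) (by decide +kernel)) (top P) (by decide)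
theorem card_stab : Nat.card ((m P).pst [0]) = 18393661440 := (m P).card_stab (trans P) (by rw [card P]) (by decide)
theorem simple : IsSimpleGroup G :=
  haveI := fin P
  simple_of_coatom _ (coatom P) (fun N hN h => (m P).normal_le_stab (trans P) (base P) (by decide) N h)
    (ev (m P).g [21]) 13 (by rw [← ev_wpow]; exact (all_take_done (all_take_step (all_take_zero _ xR) ((m P).ev_one (inj P) (Model.via _ (mR P) (fun R => relsW R 0 R.lg ((xR.drop 0).take 1)) c22))) (by decide +kernel)) _ (List.mem_singleton_self _))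
    (by rw [card_stab P]; decide +kernel) (ng P)
theorem stab : (gen (m P).g subs).index = 3510 ∧ gen (m P).g subs = (m P).pst [0] :=
  (m P).stab_index ((m P).gen_le_pst (Model.via _ (mR P) (fun R => Model.fixW R [0] [[0], [2], [3], [4], [5], [6], [7], [8], [0, 1, 2, 3, 4, 7, 0, 1, 2, 3, 4, 7, 0, 1, 2, 3, 4, 7, 0, 1, 2, 3, 4, 7, 0, 1, 2, 3, 4, 7]]) c23)) (top P ▸ chain_index (σ := lets 9) H0.TCFi22a.main rfl rfl (rels_of_consChk (grel P) 9 inv (by decide +kernel))) (trans P)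
theorem gsubs : gen (m P).g subs = gen P.g subs := gen_extG defs P.g 9 (by decide +kernel)
theorem so1 : (m P).orb (gen (m P).g subs) ((m P).φ (ev (m P).g [9]) 0) = Set.Ico 1 (1 + 2816) := by
  rw [(m P).apply_w (Model.via _ (mR P) (fun R => Nat.ble (Nat.succ 0) R.N) (by decide +kernel)) (Model.via _ (mR P) (fun R => mapsW R [9] (Nat.pow 2 0) (Nat.pow 2 1)) c16)]
  exact (m P).orb_eq_ico' ((m P).inOrb_mono (((m P).gen_le_pst (Model.via _ (mR P) (fun R => Model.fixW R [0] [[11], [12]]) c14)).trans (stab P).2.ge) (sub1 P)) le_rfl (Model.via _ (mR P) (fun R => Model.invW R [[0], [2], [3], [4], [5], [6], [7], [8], [0, 1, 2, 3, 4, 7, 0, 1, 2, 3, 4, 7, 0, 1, 2, 3, 4, 7, 0, 1, 2, 3, 4, 7, 0, 1, 2, 3, 4, 7]] 1 2816) c24) (by decide)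
theorem co1 : ∃ q : G ⧸ gen (m P).g subs, (MulAction.orbit (gen (m P).g subs) q).ncard = 2816 :=
  ⟨_, ((m P).ncard_orbit_coset (stab P).2 _ _).1.trans (by rw [so1 P, Model.ncard_ico])⟩
theorem so2817 : (m P).orb (gen (m P).g subs) ((m P).φ (ev (m P).g [9, 10, 9]) 0) = Set.Ico 2817 (2817 + 693) := by
  rw [(m P).apply_w (Model.via _ (mR P) (fun R => Nat.ble (Nat.succ 0) R.N) (by decide +kernel)) (Model.via _ (mR P) (fun R => mapsW R [9, 10, 9] (Nat.pow 2 0) (Nat.pow 2 2925)) c19)]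
  exact (m P).orb_eq_ico' ((m P).inOrb_mono (((m P).gen_le_pst (Model.via _ (mR P) (fun R => Model.fixW R [0] [[11], [12]]) c14)).trans (stab P).2.ge) (sub2817 P)) le_rfl (Model.via _ (mR P) (fun R => Model.invW R [[0], [2], [3], [4], [5], [6], [7], [8], [0, 1, 2, 3, 4, 7, 0, 1, 2, 3, 4, 7, 0, 1, 2, 3, 4, 7, 0, 1, 2, 3, 4, 7, 0, 1, 2, 3, 4, 7]] 2817 693) c25) (by decide)
theorem co2817 : ∃ q : G ⧸ gen (m P).g subs, (MulAction.orbit (gen (m P).g subs) q).ncard = 693 :=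
  ⟨_, ((m P).ncard_orbit_coset (stab P).2 _ _).1.trans (by rw [so2817 P, Model.ncard_ico])⟩
end H0.MFi22
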